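import Cfsg.Agent.H720.KS.Kill
import Cfsg.Agent.H848.KKL.HS

/-!
# S4577, row `HS` (helper720, after helper848)

* `E_HS` : no configuration in `HS`. An involution `z = u²` of class 2A: `⟨u⟩` is normal in `C(z)`; the involutions of
  class 2B have no fixed points on the 100 points, so `16 ∣ 100` if `D` is pure 2B.
-/

set_option autoImplicit false

namespace Cfsg.Agent.H720.KS

open Subgroup Cfsg Cfsg.Agent.H613.KS Cfsg.Agent.KFacts.HS Cfsg.Agent.KFacts.HS.DFour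
open Cfsg.Agent.HN.DoubleCover Cfsg.Agent.HN.Pres Cfsg.Agent.HN.HS100 Cfsg.Agent.HN.P1408 Cfsg.Agent.HN.H0Basic
open Cfsg.Agent.SporadicA.PermTab
open Cfsg.Agent.KFacts.HS.TwoB (g0 g0w g0_mem_K)
open Equiv
open Cfsg.Agent.H848.KKL (dvd_of_free g0_nofix)

universe u

/-- `⟨v⟩`, `v` of order 4 with `C(v²)` normalising `⟨v⟩` -/
theorem false_of_four {S : Type u} [Group S] {D : Subgroup S} {x v : S} (h : Cfg D x) (hd : v * v ∈ D) (h1 : v * v ≠ 1)
    (h4 : (v * v) * (v * v) = 1)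
    (hv : ∀ c : S, c * (v * v) = (v * v) * c → c * v * c⁻¹ = v ∨ c * v * c⁻¹ = v⁻¹) : False := by
  have hv4 : v ^ (2 ^ 2) = 1 := by
    rw [← h4, show 2 ^ 2 = 1 + 1 + 1 + 1 by norm_num, pow_succ, pow_succ, pow_succ, pow_one]
    group
  have hN : zpowers v ≤ D := by
    refine h.rad (zpowers (v * v)) (zpowers_le.2 hd) (zpowers v) ?_ ?_ ?_
    · rintro ⟨n, hn⟩
      obtain ⟨i, rfl⟩ := mem_zpowers_iff.1 hn
      refine ⟨2, Subtype.ext ?_⟩
      change (v ^ i) ^ (2 ^ 2) = 1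
      rw [← zpow_natCast (v ^ i), ← zpow_mul, mul_comm, zpow_mul, zpow_natCast, hv4, one_zpow]
    · rw [zpowers_le, mem_centralizer_iff]
      rintro _ ⟨i, rfl⟩
      have : Commute (v * v) v := (Commute.refl v).mul_left (Commute.refl v)
      exact this.zpow_left i
    · rintro c hc _ ⟨i, rfl⟩
      have h2 : c * (v * v) = (v * v) * c := ((mem_centralizer_iff.1 hc) (v * v) (mem_zpowers _)).symm
      have h3 : c * v ^ i * c⁻¹ = (c * v * c⁻¹) ^ i := by rw [conj_zpow]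
      change c * v ^ i * c⁻¹ ∈ zpowers v
      rw [h3]
      rcases hv c h2 with h4 | h4
      · rw [h4]; exact zpow_mem (mem_zpowers v) i
      · rw [h4]; exact zpow_mem (inv_mem (mem_zpowers v)) i
  exact h1 (h.e16.inv v (hN (mem_zpowers v)))

/-- **the row `HS`** -/
theorem E_HS {S : Type u} [Group S] [Finite S] (h : Spor.IsoHS S) : NoCfg S := by
  intro D x hc
  obtain ⟨e⟩ := h
  obtain ⟨⟨f⟩, -⟩ := Cfsg.Agent.HN.AutHS.nonempty_Q
  let g : Q ≃* S := f.trans e.symm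
  let M : Cfsg.Agent.KFacts.HS.Mod S := modQ.map g
  have sh := M.sheet
  by_cases hA : ∃ d ∈ D, d ≠ 1 ∧ ∃ c, c * zA M * c⁻¹ = d
  · obtain ⟨d, hd, hd1, c, hcd⟩ := hA
    rw [← Cfsg.Agent.BpSpor.HSInv.z_eq] at hcd
    have hvv : (c * M.u * c⁻¹) * (c * M.u * c⁻¹) = d := by
      rw [← hcd, ← sh.uu]
      group
    refine false_of_four hc (v := c * M.u * c⁻¹) (by rw [hvv]; exact hd) (by rw [hvv]; exact hd1)
      (by rw [hvv]; exact hc.e16.inv d hd) fun k hk => ?_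
    rw [hvv, ← hcd] at hk
    have h1 : (c⁻¹ * k * c) * M.z = M.z * (c⁻¹ * k * c) := by
      calc (c⁻¹ * k * c) * M.z = c⁻¹ * (k * (c * M.z * c⁻¹)) * c := by group
        _ = c⁻¹ * ((c * M.z * c⁻¹) * k) * c := by rw [hk]
        _ = M.z * (c⁻¹ * k * c) := by group
    have h2 : k * (c * M.u * c⁻¹) * k⁻¹ = c * ((c⁻¹ * k * c) * M.u * (c⁻¹ * k * c)⁻¹) * c⁻¹ := by group
    rcases sh.inv _ h1 with h3 | h3
    · left; rw [h2, h3]
    · right; rw [h2, h3]; group
  · have h8 := dvd_of_free (A := ↥D) (X := Fin 100) ((Q.subtype.comp g.symm.toMonoidHom).comp D.subtype) (by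
      rintro ⟨d, hd⟩ hne i hi
      have hd1 : d ≠ 1 := fun h => hne (Subtype.ext h)
      rcases inv_cases M d (hc.e16.inv d hd) hd1 with h1 | ⟨c, h1⟩
      · exact hA ⟨d, hd, hd1, h1⟩
      · have h2 : wB M = g (φK ⟨g0, g0_mem_K⟩) := rfl
        have h3 : ((g.symm d : Q) : Perm (Fin 100)) = (g.symm c : Q) * φ g0 * ((g.symm c : Q) : Perm (Fin 100))⁻¹ := by
          rw [← h1, h2, map_mul, map_mul, MulEquiv.symm_apply_apply, map_inv]
          rfl
        have h4 : ((g.symm d : Q) : Perm (Fin 100)) i = i := hi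
        rw [h3] at h4
        apply g0_nofix (((g.symm c : Q) : Perm (Fin 100))⁻¹ i)
        rw [Perm.mul_apply, Perm.mul_apply] at h4
        rw [Perm.eq_inv_iff_eq]
        exact h4)
    rw [hc.e16.card, Fintype.card_fin] at h8
    omega

end Cfsg.Agent.H720.KS
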