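import Cfsg.Agent.H720.KS.Kill
import Cfsg.Agent.H921.KKL.EJ

/-!
# S4577, row `J₂` (helper720, after helper921)

* `D2'` : a normal 2-subgroup of the centralizer of an involution conjugate into `D` has exponent 2;
* `E_J2` : `D` is pure 2B, so `D` is a Sylow 2-subgroup of `C(2B)`, which contains elements 2A.
-/

set_option autoImplicit false

namespace Cfsg.Agent.H720.KS

open Cfsg Subgroup Cfsg.Agent.H613.KS Cfsg.Agent.J2Type Cfsg.Agent.J2Type.Model Cfsg.Agent.J2Type.Base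
open Cfsg.Agent.J2Type.SPFacts Cfsg.Agent.J2Type.CStruct Cfsg.Agent.J2Type.CentU
open Cfsg.Agent.H489.KKL (Nor)

universe u

/-- the model of `2^{1+4}_-.A₅` -/
theorem no_model {S : Type u} [Group S] [Finite S] {D : Subgroup S} {x : S} (h : Cfg D x) {a z : S} (ha : a ∈ D)
    (hza : IsConj z a) {Q : Subgroup (centralizer ({z} : Set S))} {v : Fin 5 → centralizer ({z} : Set S)}
    {ρ : centralizer ({z} : Set S) →* SP} {z' : centralizer ({z} : Set S)}
    (M : IsModel Q z' v ρ) : False := by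
  have hN : Nor z (Q.map (centralizer ({z} : Set S)).subtype) :=
    { two := (KFacts.J2.Facts.isPGroup_Q M).map _
      le := by
        rintro _ ⟨q, -, rfl⟩
        exact mem_centralizer_singleton_iff.1 q.2
      nor := by
        rintro c hc _ ⟨q, hq, rfl⟩
        have hn := J3Type.OneClass.normal_Q M
        exact ⟨_, hn.conj_mem q hq ⟨c, mem_centralizer_singleton_iff.2 hc⟩, rfl⟩ }
  refine no_exp h hN (n := ((v 0 * v 1 : centralizer ({z} : Set S)) : S))
    (mem_map_of_mem _ (Q.mul_mem (M.v_mem 0) (M.v_mem 1))) (fun h2 => ?_) a ha hza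
  have h3 : (v 0 * v 1) * (v 0 * v 1) = 1 := Subtype.ext h2
  have h4 := M.v_anti 0 1 (by decide)
  have h5 : (v 0 * v 1) * (v 0 * v 1) = z' * (v 1 * (v 0 * v 0) * v 1) := by
    calc (v 0 * v 1) * (v 0 * v 1) = (v 0 * v 1) * v 0 * v 1 := by group
      _ = z' * (v 1 * v 0) * v 0 * v 1 := by rw [h4]
      _ = z' * (v 1 * (v 0 * v 0) * v 1) := by group
  rw [h5, M.v_sq, mul_one, M.v_sq, mul_one] at h3
  exact M.z_ne h3

variable {S : Type u} [Group S] [Finite S]

theorem E_J3 (h : Spor.IsoJ3 S) : NoCfg S := by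
  intro D x hc
  obtain ⟨-, z, Q, v, ρ, n, w, F⟩ := KFacts.J3.exists_facts h
  obtain ⟨a, ha, ha1, haa⟩ := exists_inv hc
  exact no_model hc ha (isConj_iff.2 (F.one a ha1 haa)) F.model

/-- **the row `J₂`** -/
theorem E_J2 (h : Spor.IsoJ2 S) : NoCfg S := by
  haveI : Fact (Nat.Prime 2) := ⟨Nat.prime_two⟩
  intro D x hc
  obtain ⟨z, u, Q, v, ρ, D0⟩ := KFacts.J2.Facts.exists_dat_of h
  have hconj : ∀ b ∈ D, b ≠ 1 → IsConj u b := by
    intro b hb hb1
    rcases D0.F.cover b (orderOf_eq_prime (by rw [pow_two, hc.e16.inv b hb]) hb1) with h1 | h1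
    · exact (no_model hc hb h1 D0.M).elim
    · exact h1
  obtain ⟨a, ha, ha1, haa⟩ := exists_inv hc
  have hua := hconj a ha ha1
  obtain ⟨f, U, V, H0, L⟩ := CentU.main D0.F
  have h240 := Order.card_centralizer_u D0.F
  obtain ⟨g, hg⟩ := isConj_iff.1 hua
  set C := centralizer ({u} : Set S) with hC
  have hcommD : ∀ s ∈ D, ∀ t ∈ D, s * t = t * s := fun s hs t ht => comm_D hc hs ht
  -- conjugate into `C(u)`
  let D1 : Subgroup S := D.map (MulAut.conj g⁻¹).toMonoidHom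
  have hD1 : D1 ≤ C := by
    rintro _ ⟨s, hs, rfl⟩
    rw [hC, mem_centralizer_singleton_iff]
    show g⁻¹ * s * g⁻¹⁻¹ * u = u * (g⁻¹ * s * g⁻¹⁻¹)
    calc g⁻¹ * s * g⁻¹⁻¹ * u = g⁻¹ * (s * (g * u * g⁻¹)) * g := by group
      _ = g⁻¹ * (s * a) * g := by rw [hg]
      _ = g⁻¹ * (a * s) * g := by rw [hcommD s hs a ha]
      _ = g⁻¹ * (g * u * g⁻¹ * s) * g := by rw [hg]
      _ = u * (g⁻¹ * s * g⁻¹⁻¹) := by group
  have hD18 : Nat.card D1 = 16 := by
    rw [card_map_of_injective (MulAut.conj g⁻¹).injective, hc.e16.card]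
  have hE : E z u ≤ C := fun y hy => mem_centralizer_singleton_iff.2 (mem_E.1 hy).2
  have hf : (Nat.card C).factorization 2 = 4 := by
    rw [h240, show (240 : ℕ) = 2 ^ 4 * 15 by norm_num, Nat.factorization_mul (by norm_num) (by norm_num),
      Nat.Prime.factorization_pow (by norm_num), Finsupp.add_apply, Finsupp.single_eq_same,
      Nat.factorization_eq_zero_of_not_dvd (by norm_num)]
  let P : Sylow 2 C := Sylow.ofCard ((E z u).subgroupOf C) (by
    rw [Nat.card_congr (subgroupOfEquivOfLe hE).toEquiv, CentU.card_E D0.F, hf]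
    norm_num)
  have hp : IsPGroup 2 (D1.subgroupOf C) := IsPGroup.of_card (n := 4) (by
    rw [Nat.card_congr (subgroupOfEquivOfLe hD1).toEquiv, hD18]
    norm_num)
  obtain ⟨R, hR⟩ := hp.exists_le_sylow
  obtain ⟨c, hcR⟩ := MulAction.exists_smul_eq C R P
  let D2 : Subgroup S := D1.map (MulAut.conj (c : S)).toMonoidHom
  have hD2E : D2 ≤ E z u := by
    rintro _ ⟨s, hs, rfl⟩
    have h1 : c * ⟨s, hD1 hs⟩ * c⁻¹ ∈ (P : Subgroup C) := by
      rw [← hcR, Sylow.smul_def]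
      exact ⟨⟨s, hD1 hs⟩, hR (mem_subgroupOf.2 hs), rfl⟩
    exact h1
  have hD28 : Nat.card D2 = 16 := by
    rw [card_map_of_injective (MulAut.conj (c : S)).injective, hD18]
  have hut : ∀ s ∈ D2, s ≠ 1 → IsConj u s := by
    rintro _ ⟨_, ⟨s, hs, rfl⟩, rfl⟩ hne
    have hs1 : s ≠ 1 := by
      rintro rfl
      exact hne (by rw [map_one, map_one])
    refine (hconj s hs hs1).trans (isConj_iff.2 ⟨c * g⁻¹, ?_⟩)
    show (c : S) * g⁻¹ * s * ((c : S) * g⁻¹)⁻¹ = c * (g⁻¹ * s * g⁻¹⁻¹) * (c : S)⁻¹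
    group
  have hUE : U ≤ E z u := by
    intro y hy
    rcases (L.memU y).1 hy with h1 | ⟨-, h1, h2⟩
    · rw [h1]; exact one_mem _
    · exact mem_E.2 ⟨h1, h2⟩
  have hinf : ∀ y ∈ D2, y ∈ U → y = 1 := by
    intro y hy hyU
    by_contra hne
    rcases (L.memU y).1 hyU with h1 | ⟨h1, -, -⟩
    · exact hne h1
    · exact D0.F.nconj (h1.trans (hut y hy hne).symm)
  have hinj : Function.Injective (fun p : D2 × U => (⟨p.1 * p.2, mul_mem (hD2E p.1.2) (hUE p.2.2)⟩ : E z u)) := by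
    rintro ⟨p, q⟩ ⟨p', q'⟩ hpq
    have h1 : (p : S) * q = p' * q' := congrArg Subtype.val hpq
    have h2 : (p' : S)⁻¹ * p = q' * (q : S)⁻¹ := by
      calc (p' : S)⁻¹ * p = (p' : S)⁻¹ * (p * q) * (q : S)⁻¹ := by group
        _ = q' * (q : S)⁻¹ := by rw [h1]; group
    have h3 := hinf _ (D2.mul_mem (D2.inv_mem p'.2) p.2) (by rw [h2]; exact U.mul_mem q'.2 (U.inv_mem q.2))
    have h4 : (p : S) = p' := (inv_mul_eq_one.1 h3).symm
    rw [h3] at h2
    have h5 : (q : S) = q' := (mul_inv_eq_one.1 h2.symm).symm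
    exact Prod.ext (Subtype.ext h4) (Subtype.ext h5)
  have h1 := Nat.card_le_card_of_injective _ hinj
  rw [Nat.card_prod, hD28, L.cardU, CentU.card_E D0.F] at h1
  norm_num at h1

end Cfsg.Agent.H720.KS
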