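import Cfsg.Agent.H613.KS.Defs
import Cfsg.Agent.H489.KKL.Kill
import Cfsg.Agent.EvenType.CharTwoCent
import Cfsg.Agent.Lib.Cores

/-!
# S4577, sporadic rows: tools (helper720)

The 16-versions of `H651/KKL/Base`, `H348/KKL/Gen`, `H489/KKL/Kill` for `Cfsg.Agent.H613.KS.Cfg D x`:

* `le_D`, `rad_le`, `not_nor` : normal 2-subgroups of `C(z)`, `z ∈ D`;
* `kill_charTwo`, `charTwo` : characteristic 2 and `32 ∣ |S|`;
* `Bad`, `not_bad`, `of_bad`;
* `moves`, `eq_top_of`, `exists_three` : the action of the 5-element;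
* `no_lift` : all the lifts of involutions of `D` have order 4;
* `noCfg_congr`, `noCfg_of`.
-/

set_option autoImplicit false

open Cfsg Subgroup Cfsg.Agent.H613.KS

namespace Cfsg.Agent.H720.KS

open Cfsg.Agent.H489.KKL (Nor cj mem_cj cj_mem card_cj)

variable {S : Type*} [Group S] {D : Subgroup S} {x : S}

theorem fin_D (h : E16 D) : Finite D := Nat.finite_of_card_ne_zero (by rw [h.card]; norm_num)

theorem exists_inv (h : Cfg D x) : ∃ z ∈ D, z ≠ 1 ∧ z * z = 1 := by
  have h1 : 1 < Nat.card D := by rw [h.e16.card]; norm_num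
  have : Finite D := fin_D h.e16
  rw [Finite.one_lt_card_iff_nontrivial] at h1
  obtain ⟨⟨z, hz⟩, hne⟩ := exists_ne (1 : D)
  exact ⟨z, hz, fun h2 => hne (Subtype.ext h2), h.e16.inv z hz⟩

theorem comm_e (h : E16 D) {a b : S} (ha : a ∈ D) (hb : b ∈ D) : a * b = b * a := by
  have h1 := h.inv _ (D.mul_mem ha hb)
  have h2 := h.inv _ ha
  have h3 := h.inv _ hb
  calc a * b = b * b * (a * b) * (a * a) := by rw [h3, h2]; group
    _ = b * (b * a * (b * a)) * a := by group
    _ = b * a := by rw [h.inv _ (D.mul_mem hb ha)]; group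

theorem comm_D (h : Cfg D x) {a b : S} (ha : a ∈ D) (hb : b ∈ D) : a * b = b * a := comm_e h.e16 ha hb

theorem isPGroup_e (h : E16 D) : IsPGroup 2 D := by
  rintro ⟨d, hd⟩
  refine ⟨1, Subtype.ext ?_⟩
  show d ^ (2 ^ 1) = 1
  rw [pow_one, pow_two, h.inv d hd]

theorem centralizer_zpowers (z : S) :
    centralizer ((zpowers z : Subgroup S) : Set S) = centralizer ({z} : Set S) := by
  rw [zpowers_eq_closure, centralizer_closure]

/-- normal 2-subgroups of the centralizer of an element of `D` lie in `D` -/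
theorem le_D (h : Cfg D x) {z : S} (hz : z ∈ D) {N : Subgroup S} (hN2 : IsPGroup 2 N)
    (hNz : N ≤ centralizer {z}) (hNn : ∀ c ∈ centralizer ({z} : Set S), ∀ n ∈ N, c * n * c⁻¹ ∈ N) : N ≤ D := by
  refine h.rad (zpowers z) ((zpowers_le).2 hz) N hN2 ?_ ?_
  · rw [centralizer_zpowers]; exact hNz
  · rw [centralizer_zpowers]; exact hNn

theorem rad_le (h : Cfg D x) {z : S} (hz : z ∈ D) {N : Subgroup S} (hN2 : IsPGroup 2 N)
    (hNz : ∀ n ∈ N, n * z = z * n) (hNn : ∀ c : S, c * z = z * c → ∀ n ∈ N, c * n * c⁻¹ ∈ N) : N ≤ D :=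
  le_D h hz hN2 (fun n hn => mem_centralizer_singleton_iff.2 (hNz n hn))
    fun c hc => hNn c (mem_centralizer_singleton_iff.1 hc)

theorem nor_le (h : Cfg D x) {z : S} (hz : z ∈ D) {N : Subgroup S} (hN : Nor z N) : N ≤ D :=
  rad_le h hz hN.two hN.le hN.nor

theorem card_le (h : Cfg D x) {N : Subgroup S} (hN : N ≤ D) : Nat.card N ≤ 16 := by
  have : Finite D := fin_D h.e16
  have h2 := Nat.card_le_card_of_injective (inclusion hN) (inclusion_injective hN)
  rwa [h.e16.card] at h2

theorem kill_card (h : Cfg D x) {z : S} (hz : z ∈ D) {N : Subgroup S} (hN2 : IsPGroup 2 N)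
    (hNz : N ≤ centralizer {z}) (hNn : ∀ c ∈ centralizer ({z} : Set S), ∀ n ∈ N, c * n * c⁻¹ ∈ N)
    (h8 : 16 < Nat.card N) : False := by
  have := card_le h (le_D h hz hN2 hNz hNn)
  omega

theorem kill_sq (h : Cfg D x) {z : S} (hz : z ∈ D) {N : Subgroup S} (hN2 : IsPGroup 2 N)
    (hNz : N ≤ centralizer {z}) (hNn : ∀ c ∈ centralizer ({z} : Set S), ∀ n ∈ N, c * n * c⁻¹ ∈ N)
    {n : S} (hn : n ∈ N) (hn2 : n * n ≠ 1) : False :=
  hn2 (h.e16.inv n (le_D h hz hN2 hNz hNn hn))

/-- kill: an element of order 4 -/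
theorem no_exp (h : Cfg D x) {t : S} {N : Subgroup S} (hN : Nor t N) {n : S} (hn : n ∈ N) (hn2 : n * n ≠ 1) :
    ∀ z ∈ D, ¬ IsConj t z := by
  intro z hz hc
  obtain ⟨g, rfl⟩ := isConj_iff.1 hc
  have h1 := h.e16.inv _ (nor_le h hz (hN.cj g) (cj_mem hn))
  apply hn2
  have e : g * (n * n) * g⁻¹ = 1 := by rw [← h1]; group
  calc n * n = g⁻¹ * (g * (n * n) * g⁻¹) * g := by group
    _ = 1 := by rw [e]; group

/-- kill: order at least 17 -/
theorem no_card (h : Cfg D x) {t : S} {N : Subgroup S} (hN : Nor t N) (h9 : 16 < Nat.card N) :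
    ∀ z ∈ D, ¬ IsConj t z := by
  intro z hz hc
  obtain ⟨g, rfl⟩ := isConj_iff.1 hc
  have h2 := card_le h (nor_le h hz (hN.cj g))
  rw [card_cj] at h2
  omega

/-- a 2-subgroup of `C(x)` has at most 16 elements -/
theorem card_le_of_comm (h : Cfg D x) {Q : Subgroup S} (hQ : IsPGroup 2 Q)
    (hc : ∀ q ∈ Q, q * x = x * q) : Nat.card Q ≤ 16 := by
  obtain ⟨c, -, hcQ⟩ := h.syl Q hQ hc
  rw [← h.e16.card]
  have : Finite D := fin_D h.e16
  exact Nat.card_le_card_of_injective (fun q : Q => (⟨c * q * c⁻¹, hcQ q q.2⟩ : D)) (fun a b hab => by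
    have h1 : c * (a : S) * c⁻¹ = c * b * c⁻¹ := congrArg Subtype.val hab
    exact Subtype.ext (mul_left_cancel (mul_right_cancel h1)))

/-- elements of 2-power order of `C(x)` are involutions -/
theorem sq_of_comm (h : Cfg D x) {q : S} {k : ℕ} (hq : q ^ 2 ^ k = 1) (hc : q * x = x * q) : q * q = 1 := by
  have hp : IsPGroup 2 ↥(zpowers q) := by
    rintro ⟨_, m, rfl⟩
    refine ⟨k, Subtype.ext ?_⟩
    show (q ^ m) ^ 2 ^ k = 1
    rw [← zpow_natCast, ← zpow_mul, mul_comm, zpow_mul, zpow_natCast, hq, one_zpow]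
  obtain ⟨c, -, hcQ⟩ := h.syl (zpowers q) hp (by
    rintro _ ⟨m, rfl⟩
    have : Commute q x := hc
    exact (this.zpow_left m).eq)
  have h1 := h.e16.inv _ (hcQ q (mem_zpowers q))
  have h2 : c * (q * q) * c⁻¹ = 1 := by rw [← h1]; group
  have h3 : q * q = c⁻¹ * (c * (q * q) * c⁻¹) * c := by group
  rw [h3, h2]; group

/-- a 2-element commuting with `x` and with `D` is in `D` -/
theorem mem_of_comm (h : Cfg D x) {q : S} {k : ℕ} (hq : q ^ 2 ^ k = 1) (hc : q * x = x * q)
    (hD : ∀ d ∈ D, d * q = q * d) : q ∈ D := by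
  by_contra hn
  have hqq := sq_of_comm h hq hc
  let Q : Subgroup S :=
    { carrier := {a | a ∈ D ∨ ∃ d ∈ D, a = d * q}
      one_mem' := Or.inl D.one_mem
      mul_mem' := by
        rintro a b (ha | ⟨d, hd, rfl⟩) (hb | ⟨e, he, rfl⟩)
        · exact Or.inl (D.mul_mem ha hb)
        · exact Or.inr ⟨a * e, D.mul_mem ha he, by group⟩
        · exact Or.inr ⟨d * b, D.mul_mem hd hb, by rw [mul_assoc, ← hD b hb, mul_assoc]⟩
        · refine Or.inl ?_
          have : d * q * (e * q) = d * e := by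
            calc d * q * (e * q) = d * (q * e) * q := by group
              _ = d * (e * q) * q := by rw [hD e he]
              _ = d * e * (q * q) := by group
              _ = d * e := by rw [hqq, mul_one]
          rw [this]
          exact D.mul_mem hd he
      inv_mem' := by
        rintro a (ha | ⟨d, hd, rfl⟩)
        · exact Or.inl (D.inv_mem ha)
        · refine Or.inr ⟨d⁻¹, D.inv_mem hd, ?_⟩
          have h1 : q⁻¹ = q := inv_eq_of_mul_eq_one_left hqq
          rw [mul_inv_rev, h1, ← hD _ (D.inv_mem hd)] }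
  have hDQ : D ≤ Q := fun d hd => Or.inl hd
  have hqQ : q ∈ Q := Or.inr ⟨1, D.one_mem, by rw [one_mul]⟩
  have hsq : ∀ a ∈ Q, a * a = 1 := by
    rintro a (ha | ⟨d, hd, rfl⟩)
    · exact h.e16.inv a ha
    · calc d * q * (d * q) = d * (q * d) * q := by group
        _ = d * (d * q) * q := by rw [hD d hd]
        _ = (d * d) * (q * q) := by group
        _ = 1 := by rw [h.e16.inv d hd, hqq, one_mul]
  have hQ2 : IsPGroup 2 Q := by
    rintro ⟨d, hd⟩
    refine ⟨1, Subtype.ext ?_⟩
    show d ^ (2 ^ 1) = 1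
    rw [pow_one, pow_two, hsq d hd]
  obtain ⟨c, -, hc'⟩ := h.syl Q hQ2 (by
    rintro a (ha | ⟨d, hd, rfl⟩)
    · exact h.comm a ha
    · calc d * q * x = d * (q * x) := by group
        _ = d * x * q := by rw [hc]; group
        _ = x * (d * q) := by rw [h.comm d hd]; group)
  have : Finite D := fin_D h.e16
  have finQ : Finite Q := Finite.of_injective (fun a : Q => (⟨c * a * c⁻¹, hc' a a.2⟩ : D)) (fun a b hab => by
    have h1 : c * (a : S) * c⁻¹ = c * b * c⁻¹ := congrArg Subtype.val hab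
    exact Subtype.ext (mul_left_cancel (mul_right_cancel h1)))
  have h1 : Nat.card Q ≤ Nat.card D := by
    rw [h.e16.card]
    exact card_le_of_comm h hQ2 (by
      rintro a (ha | ⟨d, hd, rfl⟩)
      · exact h.comm a ha
      · calc d * q * x = d * (q * x) := by group
          _ = d * x * q := by rw [hc]; group
          _ = x * (d * q) := by rw [h.comm d hd]; group)
  exact hn (by rw [Subgroup.eq_of_le_of_card_ge hDQ h1]; exact hqQ)

theorem ne_one_of_dvd [Finite S] (h : Cfg D x) (h16 : 32 ∣ Nat.card S) : x ≠ 1 := by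
  rintro rfl
  have : Fact (Nat.Prime 2) := ⟨Nat.prime_two⟩
  obtain ⟨Q, hQ⟩ := Sylow.exists_subgroup_card_pow_prime (G := S) 2 (n := 5) (by simpa using h16)
  have := card_le_of_comm h (Q := Q) (IsPGroup.of_card hQ) (fun q _ => by rw [mul_one, one_mul])
  rw [hQ] at this
  omega

/-- a power of prime order -/
theorem exists_prime (h : Cfg D x) (hx : x ≠ 1) :
    ∃ p : ℕ, p.Prime ∧ p ≠ 2 ∧ ∃ k : ℕ, orderOf (x ^ k) = p := by
  have h1 : orderOf x ≠ 1 := fun h1 => hx (orderOf_eq_one_iff.1 h1)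
  obtain ⟨p, hp, hpx⟩ := Nat.exists_prime_and_dvd h1
  refine ⟨p, hp, ?_, orderOf x / p, ?_⟩
  · rintro rfl
    have := h.odd
    rw [Nat.odd_iff] at this
    omega
  · obtain ⟨m, hm⟩ := hpx
    have h0 : orderOf x ≠ 0 := by
      have := h.odd
      rw [Nat.odd_iff] at this
      omega
    have hm0 : m ≠ 0 := by rintro rfl; omega
    rw [hm, Nat.mul_div_cancel_left _ hp.pos, orderOf_pow_of_dvd hm0 (by rw [hm]; exact dvd_mul_left _ _), hm,
      Nat.mul_div_cancel _ (Nat.pos_of_ne_zero hm0)]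

theorem comm_pow (h : Cfg D x) (k : ℕ) : ∀ d ∈ D, d * x ^ k = x ^ k * d := by
  intro d hd
  have : Commute d x := h.comm d hd
  exact (this.pow_right k).eq

/-- an element of odd order which is an involution -/
theorem eq_one_of_odd (h : Cfg D x) (hx : x * x = 1) : x = 1 := by
  have h2 := h.odd
  have h3 : orderOf x ∣ 2 := orderOf_dvd_of_pow_eq_one (by rw [pow_two, hx])
  rcases (Nat.dvd_prime Nat.prime_two).1 h3 with h4 | h4
  · exact orderOf_eq_one_iff.1 h4
  · rw [h4] at h2; exact absurd h2 (by decide)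

/-- if `x` is a 2-element then `x = 1` -/
theorem eq_one_of_two (h : Cfg D x) {k : ℕ} (hx : x ^ 2 ^ k = 1) : x = 1 := by
  have h3 : orderOf x ∣ 2 ^ k := orderOf_dvd_of_pow_eq_one hx
  obtain ⟨j, -, hj⟩ := (Nat.dvd_prime_pow Nat.prime_two).1 h3
  rcases Nat.eq_zero_or_pos j with rfl | hj0
  · exact orderOf_eq_one_iff.1 (by simpa using hj)
  · have h2 := h.odd
    rw [hj] at h2
    exact absurd h2 (by
      rw [Nat.not_odd_iff_even]
      exact (Nat.even_pow.2 ⟨even_two, by omega⟩))

/-- `C(z)`, `z ∈ D#`, is not of characteristic 2 if `32 ∣ |S|`. -/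
theorem kill_charTwo [Finite S] (h : Cfg D x) {z : S} (hz : z ∈ D)
    (hc : IsOfCharacteristicTwo ↥(centralizer ({z} : Set S))) (h16 : 32 ∣ Nat.card S) : False := by
  set C := centralizer ({z} : Set S) with hC
  have hN2 : IsPGroup 2 ↥((pCore 2 ↥C).map C.subtype) := by
    have : IsPGroup 2 ↥(pCore 2 ↥C) := Cfsg.Agent.Lib.Cores.pCore_isPGroup 2
    exact this.map _
  have hle : (pCore 2 ↥C).map C.subtype ≤ D := by
    refine le_D h hz hN2 (map_subtype_le _) ?_
    rintro c hcC _ ⟨n, hn, rfl⟩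
    exact ⟨⟨c, hcC⟩ * n * ⟨c, hcC⟩⁻¹, (Cfsg.Agent.Lib.Cores.pCore_normal (G := ↥C) 2).conj_mem n hn _, rfl⟩
  have hDC : D ≤ C := fun d hd => mem_centralizer_singleton_iff.2 (comm_D h hd hz)
  have hxC : x ∈ C := mem_centralizer_singleton_iff.2 (h.comm z hz).symm
  have key : ∀ c : S, c ∈ C → (∀ d ∈ D, d * c = c * d) → c ∈ D := by
    intro c hcC hcd
    refine hle ⟨⟨c, hcC⟩, hc (mem_centralizer_iff.2 fun n hn => Subtype.ext ?_), rfl⟩
    exact hcd n (hle ⟨n, hn, rfl⟩)
  exact ne_one_of_dvd h h16 (eq_one_of_odd h (h.e16.inv x (key x hxC fun d hd => h.comm d hd)))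

/-- **Groups of characteristic 2 type.** -/
theorem charTwo [Finite S] (hc : IsCharacteristicTwoType S) (h16 : 32 ∣ Nat.card S) : NoCfg S := by
  intro D x h
  obtain ⟨z, hz, hz1, hzz⟩ := exists_inv h
  have ht : orderOf z = 2 := orderOf_eq_prime (by rw [pow_two, hzz]) hz1
  exact kill_charTwo h hz (EvenType.CharTwoCent.char2_centralizer hc ht) h16

/-- `C(z)` has a normal 2-subgroup of order `> 16` or with an element of order 4 -/
def Bad (z : S) : Prop :=
  ∃ N : Subgroup S, IsPGroup 2 N ∧ N ≤ centralizer {z} ∧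
    (∀ c ∈ centralizer ({z} : Set S), ∀ n ∈ N, c * n * c⁻¹ ∈ N) ∧ (16 < Nat.card N ∨ ∃ n ∈ N, n * n ≠ 1)

theorem Bad.map {S' : Type*} [Group S'] (e : S ≃* S') {z : S} (h : Bad z) : Bad (e z) := by
  obtain ⟨N, h1, h2, h3, h4⟩ := h
  refine ⟨N.map e.toMonoidHom, h1.map _, ?_, ?_, ?_⟩
  · rintro _ ⟨n, hn, rfl⟩
    have := mem_centralizer_singleton_iff.1 (h2 hn)
    exact mem_centralizer_singleton_iff.2 (by
      show e n * e z = e z * e n
      rw [← map_mul, this, map_mul])
  · rintro c hc _ ⟨n, hn, rfl⟩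
    refine ⟨e.symm c * n * (e.symm c)⁻¹, h3 _ ?_ n hn, ?_⟩
    · have := mem_centralizer_singleton_iff.1 hc
      refine mem_centralizer_singleton_iff.2 (e.injective ?_)
      rw [map_mul, map_mul, e.apply_symm_apply, this]
    · show e (e.symm c * n * (e.symm c)⁻¹) = c * e n * c⁻¹
      rw [map_mul, map_mul, map_inv, e.apply_symm_apply]
  · rcases h4 with h4 | ⟨n, hn, hn2⟩
    · left
      rwa [Subgroup.card_map_of_injective e.injective]
    · right
      refine ⟨e n, ⟨n, hn, rfl⟩, fun h5 => hn2 (e.injective ?_)⟩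
      rw [map_mul, h5, map_one]

theorem Bad.conj {z : S} (h : Bad z) (g : S) : Bad (g * z * g⁻¹) := h.map (MulAut.conj g)

theorem Bad.of_isConj {s z : S} (h : Bad s) (hc : IsConj s z) : Bad z := by
  obtain ⟨g, hg⟩ := isConj_iff.1 hc
  rw [← hg]
  exact h.conj g

theorem Bad.of_nor {z : S} {N : Subgroup S} (hN : Nor z N) (h : 16 < Nat.card N ∨ ∃ n ∈ N, n * n ≠ 1) : Bad z :=
  ⟨N, hN.two, fun n hn => mem_centralizer_singleton_iff.2 (hN.le n hn),
    fun c hc n hn => hN.nor c (mem_centralizer_singleton_iff.1 hc) n hn, h⟩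

theorem not_bad (h : Cfg D x) {z : S} (hz : z ∈ D) : ¬ Bad z := by
  rintro ⟨N, h1, h2, h3, h4 | ⟨n, hn, hn2⟩⟩
  · exact kill_card h hz h1 h2 h3 h4
  · exact kill_sq h hz h1 h2 h3 hn hn2

/-- all the involutions are bad -/
theorem of_bad (h : ∀ z : S, z * z = 1 → z ≠ 1 → Bad z) : NoCfg S := by
  intro D x hc
  obtain ⟨z, hz, hz1, hzz⟩ := exists_inv hc
  exact not_bad hc hz (h z hzz hz1)

/-! ### the 5-element -/

theorem conj_mem {y : S} (hy : Five D y) {d : S} (hd : d ∈ D) : y * d * y⁻¹ ∈ D := (hy.norm d).2 hd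

/-- subsets of `D` invariant under `y` generate `D` -/
theorem closure_eq {y : S} (hy : Five D y) {T : Set S} (hT : ∀ t ∈ T, t ∈ D) (hTy : ∀ t ∈ T, y * t * y⁻¹ ∈ T)
    {t : S} (ht : t ∈ T) (ht1 : t ≠ 1) : closure T = D := by
  rcases hy.irr (closure T) ((closure_le D).2 hT) (by
    intro a ha
    have h1 : (closure T).map (MulAut.conj y).toMonoidHom ≤ closure T := by
      rw [MonoidHom.map_closure, closure_le]
      rintro _ ⟨t, ht, rfl⟩
      exact subset_closure (hTy t ht)
    exact h1 ⟨a, ha, rfl⟩) with h | h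
  · exact absurd (mem_bot.1 (h ▸ subset_closure ht)) ht1
  · exact h

/-- `y` fixes no element of `D` -/
theorem moves (h : E16 D) {y : S} (hy : Five D y) {d : S} (hd : d ∈ D) (h1 : d ≠ 1) : y * d * y⁻¹ ≠ d := by
  intro hf
  have h2 := closure_eq hy (T := {d}) (by rintro _ rfl; exact hd) (by rintro _ rfl; exact hf) rfl h1
  have h3 : Nat.card D ∣ 2 := by
    rw [← h2, ← zpowers_eq_closure, Nat.card_zpowers]
    exact orderOf_dvd_of_pow_eq_one (by rw [pow_two]; exact h.inv d hd)
  rw [h.card] at h3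
  norm_num at h3

/-- an invariant set of `D` contains three different elements -/
theorem exists_three (h : E16 D) {y : S} (hy : Five D y) {T : Set S} (hT : ∀ t ∈ T, y * t * y⁻¹ ∈ T)
    {a : S} (haD : a ∈ D) (haT : a ∈ T) (ha1 : a ≠ 1) :
    ∃ b ∈ D, b ∈ T ∧ b ≠ 1 ∧ b ≠ a ∧ ∃ c ∈ D, c ∈ T ∧ c ≠ 1 ∧ c ≠ a ∧ c ≠ b ∧ a * b * c ≠ 1 := by
  have hne : ∀ d : S, d ≠ 1 → y * d * y⁻¹ ≠ 1 := by
    intro d hd h1
    exact hd (conj_eq_one_iff.1 h1)
  have hc : ∃ c ∈ D, c ∈ T ∧ c ≠ 1 ∧ c ≠ a ∧ c ≠ y * a * y⁻¹ ∧ a * (y * a * y⁻¹) * c ≠ 1 := by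
    by_contra hno
    push Not at hno
    have h2 := closure_eq hy (T := {t | t ∈ D ∧ t ∈ T ∧ t ≠ 1}) (fun t ht => ht.1)
      (fun t ht => ⟨conj_mem hy ht.1, hT t ht.2.1, hne t ht.2.2⟩) (t := a) ⟨haD, haT, ha1⟩ ha1
    have hb : y * a * y⁻¹ ∈ D := conj_mem hy haD
    set b := y * a * y⁻¹ with hbd
    -- the closure is contained in `⟨a, b⟩`
    have hab : a * b = b * a := comm_e h haD hb
    have haa := h.inv a haD
    have hbb := h.inv b hb
    let V : Subgroup S :=
      { carrier := {u | u = 1 ∨ u = a ∨ u = b ∨ u = a * b}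
        one_mem' := Or.inl rfl
        mul_mem' := by
          have e1 : a * (a * b) = b := by rw [← mul_assoc, haa, one_mul]
          have e2 : b * (a * b) = a := by rw [hab, ← mul_assoc, hbb, one_mul]
          have e3 : a * b * a = b := by rw [hab, mul_assoc, haa, mul_one]
          have e4 : a * b * b = a := by rw [mul_assoc, hbb, mul_one]
          have e5 : a * b * (a * b) = 1 := by rw [← mul_assoc, e3, hbb]
          rintro u v (rfl | rfl | rfl | rfl) (rfl | rfl | rfl | rfl)
          · exact Or.inl (one_mul _)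
          · exact Or.inr (Or.inl (one_mul _))
          · exact Or.inr (Or.inr (Or.inl (one_mul _)))
          · exact Or.inr (Or.inr (Or.inr (one_mul _)))
          · exact Or.inr (Or.inl (mul_one _))
          · exact Or.inl haa
          · exact Or.inr (Or.inr (Or.inr rfl))
          · exact Or.inr (Or.inr (Or.inl e1))
          · exact Or.inr (Or.inr (Or.inl (mul_one _)))
          · exact Or.inr (Or.inr (Or.inr hab.symm))
          · exact Or.inl hbb
          · exact Or.inr (Or.inl e2)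
          · exact Or.inr (Or.inr (Or.inr (mul_one _)))
          · exact Or.inr (Or.inr (Or.inl e3))
          · exact Or.inr (Or.inl e4)
          · exact Or.inl e5
        inv_mem' := by
          have i1 : a⁻¹ = a := inv_eq_of_mul_eq_one_left haa
          have i2 : b⁻¹ = b := inv_eq_of_mul_eq_one_left hbb
          rintro u (rfl | rfl | rfl | rfl)
          · exact Or.inl inv_one
          · exact Or.inr (Or.inl i1)
          · exact Or.inr (Or.inr (Or.inl i2))
          · exact Or.inr (Or.inr (Or.inr (by rw [mul_inv_rev, i1, i2, hab]))) }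
    have hle : D ≤ V := by
      rw [← h2, closure_le]
      rintro t ⟨ht1, ht2, ht3⟩
      by_cases hta : t = a
      · exact Or.inr (Or.inl hta)
      by_cases htb : t = b
      · exact Or.inr (Or.inr (Or.inl htb))
      have h3 := hno t ht1 ht2 ht3 hta htb
      refine Or.inr (Or.inr (Or.inr ?_))
      have h4 : t = (a * b)⁻¹ := (inv_eq_of_mul_eq_one_right h3).symm
      have h5 : a * b * (a * b) = 1 := h.inv _ (D.mul_mem haD hb)
      rw [h4]
      exact inv_eq_of_mul_eq_one_left h5
    have hcard : Nat.card D ≤ 4 := by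
      have h6 : (D : Set S) ⊆ ({1, a, b, a * b} : Set S) := by
        intro d hd
        exact hle hd
      have h7 : (D : Set S).ncard ≤ ({1, a, b, a * b} : Set S).ncard := Set.ncard_le_ncard h6 (by
        exact (Set.finite_singleton _ |>.insert _ |>.insert _ |>.insert _))
      have h8 : ({1, a, b, a * b} : Set S).ncard ≤ 4 := by
        have h9 := Set.ncard_insert_le (1 : S) {a, b, a * b}
        have h10 := Set.ncard_insert_le (a : S) {b, a * b}
        have h11 := Set.ncard_insert_le (b : S) {a * b}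
        rw [Set.ncard_singleton] at h11
        omega
      have h12 : Nat.card D = (D : Set S).ncard := rfl
      omega
    rw [h.card] at hcard
    omega
  obtain ⟨c, hcD, hcT, hc1, hca, hcb, hcc⟩ := hc
  exact ⟨y * a * y⁻¹, conj_mem hy haD, hT a haT, hne a ha1, moves h hy haD ha1, c, hcD, hcT, hc1, hca, hcb, hcc⟩

/-! ### lifts of order 4 -/

/-- **all the involutions of `D` lift to elements of order 4: impossible** -/
theorem no_lift (h : E16 D) {y : S} (hy : Five D y) {S' : Type*} [Group S'] {π : S' →* S}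
    (hπ : Function.Surjective π) {j : S'} (hj : j * j = 1) (hj1 : j ≠ 1) (hjc : ∀ s, s * j = j * s)
    (H : ∀ s : S', π s ∈ D → π s ≠ 1 → s * s = j) : False := by
  obtain ⟨a, ha, ha1⟩ : ∃ a ∈ D, a ≠ 1 := by
    have h1 : 1 < Nat.card D := by rw [h.card]; norm_num
    have : Finite D := fin_D h
    rw [Finite.one_lt_card_iff_nontrivial] at h1
    obtain ⟨⟨z, hz⟩, hne⟩ := exists_ne (1 : D)
    exact ⟨z, hz, fun h2 => hne (Subtype.ext h2)⟩
  obtain ⟨b, hb, -, hb1, hba, c, hc, -, hc1, hca, hcb, habc⟩ := exists_three h hy (T := Set.univ)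
    (fun _ _ => trivial) ha trivial ha1
  obtain ⟨u, rfl⟩ := hπ a
  obtain ⟨v, rfl⟩ := hπ b
  obtain ⟨w, rfl⟩ := hπ c
  have hu := H u ha ha1
  have hv := H v hb hb1
  have hw := H w hc hc1
  -- products of two
  have hne2 : ∀ {s t : S'}, π s ∈ D → π t ≠ π s → π (s * t) ≠ 1 := by
    intro s t hs hst h1
    rw [map_mul] at h1
    apply hst
    have h2 := h.inv _ hs
    exact mul_left_cancel (h1.trans h2.symm)
  have anti : ∀ {s t : S'}, s * s = j → t * t = j → (s * t) * (s * t) = j → t * s = s * t * j := by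
    intro s t hs ht hst
    have h1 : s * (t * s) * t = j := by rw [← hst]; group
    have h2 : t * s = s⁻¹ * j * t⁻¹ := by rw [← h1]; group
    have h3 : s⁻¹ = s * j := inv_eq_of_mul_eq_one_right (by rw [← mul_assoc, hs, hj])
    have h4 : t⁻¹ = t * j := inv_eq_of_mul_eq_one_right (by rw [← mul_assoc, ht, hj])
    rw [h2, h3, h4]
    calc s * j * j * (t * j) = s * (j * j) * t * j := by group
      _ = s * t * j := by rw [hj, mul_one]
  have huv := anti hu hv (H (u * v) (by rw [map_mul]; exact D.mul_mem ha hb) (hne2 ha hba))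
  have huw := anti hu hw (H (u * w) (by rw [map_mul]; exact D.mul_mem ha hc) (hne2 ha hca))
  have hvw := anti hv hw (H (v * w) (by rw [map_mul]; exact D.mul_mem hb hc) (hne2 hb hcb))
  have h1 := H (u * v * w) (by rw [map_mul, map_mul]; exact D.mul_mem (D.mul_mem ha hb) hc)
    (by rw [map_mul, map_mul]; exact habc)
  apply hj1
  -- `(u v w)² = 1`
  have h2 : u * v * w * (u * v * w) = 1 := by
    calc u * v * w * (u * v * w) = u * v * (w * u) * v * w := by group
      _ = u * v * (u * w * j) * v * w := by rw [huw]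
      _ = u * (v * u) * w * (j * v) * w := by group
      _ = u * (u * v * j) * w * (v * j) * w := by rw [huv, hjc v]
      _ = (u * u) * v * (j * w) * v * (j * w) := by group
      _ = j * v * (w * j) * v * (w * j) := by rw [hu, hjc w]
      _ = j * v * w * (j * v) * w * j := by group
      _ = j * v * w * (v * j) * w * j := by rw [hjc v]
      _ = j * v * (w * v) * (j * w) * j := by group
      _ = j * v * (v * w * j) * (w * j) * j := by rw [hvw, hjc w]
      _ = j * (v * v) * w * (j * w) * (j * j) := by group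
      _ = j * j * w * (w * j) * 1 := by rw [hv, hjc w, hj]
      _ = (j * j) * (w * w) * j := by group
      _ = 1 := by rw [hj, hw, one_mul, hj]
  rw [← h1, h2]

/-! ### transport -/

theorem cfg_map {S' : Type*} [Group S'] (e : S ≃* S') (h : Cfg D x) : Cfg (D.map e.toMonoidHom) (e x) where
  e16 := {
    card := by
      rw [← h.e16.card]
      exact (Nat.card_congr (D.equivMapOfInjective _ e.injective).toEquiv).symm
    inv := by
      rintro _ ⟨d, hd, rfl⟩
      show e d * e d = 1
      rw [← map_mul, h.e16.inv d hd, map_one] }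
  odd := by rw [MulEquiv.orderOf_eq]; exact h.odd
  comm := by
    rintro _ ⟨d, hd, rfl⟩
    show e d * e x = e x * e d
    rw [← map_mul, h.comm d hd, map_mul]
  syl := by
    intro Q hQ hQc
    obtain ⟨c, hc, hc'⟩ := h.syl (Q.map e.symm.toMonoidHom) (hQ.map _) (by
      rintro _ ⟨q, hq, rfl⟩
      apply e.injective
      rw [map_mul, map_mul]
      show e (e.symm q) * e x = e x * e (e.symm q)
      rw [e.apply_symm_apply]
      exact hQc q hq)
    refine ⟨e c, by rw [← map_mul, hc, map_mul], fun q hq => ?_⟩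
    refine ⟨_, hc' (e.symm q) ⟨q, hq, rfl⟩, ?_⟩
    show e (c * e.symm q * c⁻¹) = _
    rw [map_mul, map_mul, map_inv, e.apply_symm_apply]
  five := by
    obtain ⟨y, hy⟩ := h.five
    refine ⟨e y, ?_, ?_, ?_⟩
    · intro d
      rw [mem_map_equiv, mem_map_equiv]
      have h1 := hy.norm (e.symm d)
      have e1 : e.symm (e y * d * (e y)⁻¹) = y * e.symm d * y⁻¹ := by
        rw [map_mul, map_mul, map_inv, e.symm_apply_apply]
      rw [e1]
      exact h1
    · obtain ⟨m, hm⟩ := hy.five
      exact ⟨m, by rw [MulEquiv.orderOf_eq]; exact hm⟩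
    · intro A hA hAy
      have hA' : A.map e.symm.toMonoidHom ≤ D := by
        rintro _ ⟨a, ha, rfl⟩
        obtain ⟨d, hd, hd'⟩ := hA ha
        have : e.symm.toMonoidHom a = d := by
          rw [← hd']
          exact e.symm_apply_apply d
        rw [this]
        exact hd
      have hback : (A.map e.symm.toMonoidHom).map e.toMonoidHom = A := by
        ext u
        constructor
        · rintro ⟨_, ⟨a, ha, rfl⟩, rfl⟩
          have : e.toMonoidHom (e.symm.toMonoidHom a) = a := e.apply_symm_apply a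
          rw [this]
          exact ha
        · intro hu
          exact ⟨e.symm u, ⟨u, hu, rfl⟩, e.apply_symm_apply u⟩
      rcases hy.irr (A.map e.symm.toMonoidHom) hA' (by
        rintro _ ⟨a, ha, rfl⟩
        refine ⟨e y * a * (e y)⁻¹, hAy a ha, ?_⟩
        show e.symm (e y * a * (e y)⁻¹) = y * e.symm a * y⁻¹
        rw [map_mul, map_mul, map_inv, e.symm_apply_apply]) with h1 | h1
      · left
        rw [← hback, h1, Subgroup.map_bot]
      · right
        rw [← hback, h1]
  rad := by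
    intro R hR N hN hNR hNn
    have hmem : ∀ c : S, (∀ r ∈ R, e.symm r * c = c * e.symm r) ↔ e c ∈ centralizer (R : Set S') := by
      intro c
      rw [mem_centralizer_iff]
      constructor
      · intro h1 r hr
        have h2 := congrArg e (h1 r hr)
        rwa [map_mul, map_mul, e.apply_symm_apply] at h2
      · intro h1 r hr
        apply e.injective
        rw [map_mul, map_mul, e.apply_symm_apply]
        exact h1 r hr
    have hcen : ∀ c : S, c ∈ centralizer ((R.map e.symm.toMonoidHom : Subgroup S) : Set S) ↔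
        e c ∈ centralizer (R : Set S') := by
      intro c
      rw [← hmem, mem_centralizer_iff]
      constructor
      · intro h1 r hr
        exact h1 _ ⟨r, hr, rfl⟩
      · rintro h1 _ ⟨r, hr, rfl⟩
        exact h1 r hr
    have h1 := h.rad (R.map e.symm.toMonoidHom) (by
      rintro _ ⟨r, hr, rfl⟩
      obtain ⟨d, hd, hd'⟩ := hR hr
      have : e.symm.toMonoidHom r = d := by
        rw [← hd']
        exact e.symm_apply_apply d
      rw [this]
      exact hd) (N.map e.symm.toMonoidHom) (hN.map _) (by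
      rintro _ ⟨n, hn, rfl⟩
      rw [hcen]
      have : e (e.symm.toMonoidHom n) = n := e.apply_symm_apply n
      rw [this]
      exact hNR hn) (by
      rintro c hc _ ⟨n, hn, rfl⟩
      rw [hcen] at hc
      refine ⟨e c * n * (e c)⁻¹, hNn _ hc n hn, ?_⟩
      show e.symm (e c * n * (e c)⁻¹) = c * e.symm n * c⁻¹
      rw [map_mul, map_mul, map_inv, e.symm_apply_apply])
    intro n hn
    exact ⟨e.symm n, h1 ⟨n, hn, rfl⟩, e.apply_symm_apply n⟩

theorem noCfg_congr {S' : Type*} [Group S'] (e : S ≃* S') (h : NoCfg S') : NoCfg S :=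
  fun _ _ hc => h _ _ (cfg_map e hc)

/-- the final form -/
theorem noCfg_of (h : ∀ (D : Subgroup S) (x : S), Cfg D x → ∀ z ∈ D, z ≠ 1 → False) : NoCfg S := by
  intro D x hc
  obtain ⟨z, hz, hz1, -⟩ := exists_inv hc
  exact h D x hc z hz hz1

/-- small Sylow 2-subgroups -/
theorem noCfg_of_not_dvd [Finite S] (h : ¬ 16 ∣ Nat.card S) : NoCfg S := by
  intro D x hc
  exact h (by rw [← hc.e16.card]; exact card_subgroup_dvd_card D)

end Cfsg.Agent.H720.KS
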